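import Cfsg.Agent.Omega.NO3S.WQ.Seven
import Cfsg.Agent.Omega.NO3S.FarQ.Free.Base
import Cfsg.Agent.Omega.NO3S.FarQ.Asm

/-!
# FullB, section 7 of #21459: the fields of `Hy` and `fx` over `Frm`

* `exists_fixed` : odd averages;
* `exists_fx` : the hypothesis `fx` of `Hy.false_of`, for every flag;
* `hy_of_frm` : `Hy` from `Geom`, `Frm`, `V` injective, (T6), and `ExP` for all critical pairs;
* `false_of_frm` : the end.
-/

set_option autoImplicit false
set_option linter.unusedSectionVars false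
set_option linter.unusedVariables false

namespace Cfsg.Agent.Omega.NO3S.WQ

open Subgroup Cfsg Cfsg.Agent.ZN Cfsg.Agent.MinSimple.VModule Cfsg.Agent.Omega.NOThree.Pts
open Cfsg.Agent.Omega.NOThree.LemmaM (NoOver)
open Cfsg.Agent.Omega.NO3S.FarQ Cfsg.Agent.Omega.NO3S.FarQ.Glue Cfsg.Agent.Omega.NO3S.FarQ.Free
open Cfsg.Agent.Omega.NO3S.FarQ.Asm (ExP)

section avg

variable {Γ M : Type*} [Group Γ] [CommGroup M] [MulDistribMulAction Γ M]

/-- **Odd averages**: `T` fixes `a`, `|Γ : T|` is odd, `[Γ', a] ≤ N`: some `n a`, `n ∈ N`, is fixed by `Γ'`. -/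
theorem exists_fixed [Finite Γ] (hsq : ∀ m : M, m * m = 1) {T Γ' : Subgroup Γ} (hT : ¬ 2 ∣ T.index) (hT' : T ≤ Γ')
    {N : Subgroup M} {a : M} (ha : ∀ t ∈ T, t • a = a) (hN : ∀ g ∈ Γ', (g • a) * a⁻¹ ∈ N) :
    ∃ n ∈ N, ∀ g ∈ Γ', g • (n * a) = n * a := by
  classical
  set T₁ : Subgroup Γ' := T.subgroupOf Γ' with hT₁
  haveI : Fintype (Γ' ⧸ T₁) := Fintype.ofFinite _
  have hodd : ¬ 2 ∣ Fintype.card (Γ' ⧸ T₁) := by
    intro h2
    apply hT
    rw [← relIndex_mul_index hT']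
    refine Dvd.dvd.mul_right ?_ _
    rw [← Nat.card_eq_fintype_card] at h2
    exact h2
  let F : Γ' ⧸ T₁ → M := Quotient.lift (fun g : Γ' => (g : Γ) • a) (by
    intro g g' hgg
    have h1 : g⁻¹ * g' ∈ T₁ := QuotientGroup.leftRel_apply.1 hgg
    have h2 := ha _ (mem_subgroupOf.1 h1)
    show (g : Γ) • a = (g' : Γ) • a
    rw [Subgroup.coe_mul, Subgroup.coe_inv, mul_smul, inv_smul_eq_iff] at h2
    exact h2.symm)
  have hF : ∀ g : Γ', F (QuotientGroup.mk g) = (g : Γ) • a := fun g => rfl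
  have hFN : ∀ c, F c * a⁻¹ ∈ N := by
    intro c
    obtain ⟨g, rfl⟩ := QuotientGroup.mk_surjective c
    rw [hF]
    exact hN _ g.2
  have hpow : ∀ k : ℕ, ¬ 2 ∣ k → ∀ x : M, x ^ k = x := by
    intro k hk x
    obtain ⟨j, rfl⟩ : ∃ j, k = 2 * j + 1 := ⟨k / 2, by omega⟩
    rw [pow_succ, pow_mul, pow_two, hsq, one_pow, one_mul]
  refine ⟨∏ c, (F c * a⁻¹), Subgroup.prod_mem _ fun c _ => hFN c, fun g hg => ?_⟩
  have h1 : (∏ c, (F c * a⁻¹)) * a = ∏ c, F c := by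
    rw [Finset.prod_mul_distrib, Finset.prod_const, Finset.card_univ, hpow _ hodd, inv_mul_cancel_right]
  rw [h1, Finset.smul_prod']
  refine Fintype.prod_equiv (MulAction.toPerm (⟨g, hg⟩ : Γ')) _ _ fun c => ?_
  obtain ⟨g', rfl⟩ := QuotientGroup.mk_surjective c
  show g • F (QuotientGroup.mk g') = F ((⟨g, hg⟩ : Γ') • (QuotientGroup.mk g' : Γ' ⧸ T₁))
  rw [hF]
  show g • (g' : Γ) • a = F (QuotientGroup.mk ((⟨g, hg⟩ : Γ') * g'))
  rw [hF, Subgroup.coe_mul, mul_smul]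

end avg

variable {G X L : Type*} [Group G] [MulAction G X] [MulAction G L]
variable {inc : X → L → Prop} {R W : X → Subgroup G} {V : L → Subgroup G} {s t n : ℕ}
variable {H M K : Type*} [Group H] [CommGroup M] [MulDistribMulAction H M] [CommGroup K]
variable {p : X} {l : L} {Sy : Subgroup G} {ρ : G → H} {π : G → M} {ζ : K →* G} {T : Subgroup H}
  {lam U : Subgroup M} {Kh : Subgroup (M →* K)}

/-- `N_p / R_p` -/
def rad {p : X} {ρ : G → H} {π : G → M} (Re : Four.Real R W p ρ π) : Subgroup M where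
  carrier := {m | ∃ w ∈ NN R W p, π w = m}
  one_mem' := ⟨1, one_mem _, π_one Re⟩
  mul_mem' := by
    rintro _ _ ⟨w, hw, rfl⟩ ⟨w', hw', rfl⟩
    exact ⟨w * w', mul_mem hw hw', Re.pmul _ (mem_NN.1 hw).1 _ (mem_NN.1 hw').1⟩
  inv_mem' := by
    rintro _ ⟨w, hw, rfl⟩
    exact ⟨w⁻¹, inv_mem hw, π_inv Re (mem_NN.1 hw).1⟩

theorem mem_rad {Re : Four.Real R W p ρ π} {m : M} : m ∈ rad Re ↔ ∃ w ∈ NN R W p, π w = m := Iff.rfl

section

variable (D : Geom inc R W V s t)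
include D

theorem rad_smul (Re : Four.Real R W p ρ π) (h : H) {m : M} (hm : m ∈ rad Re) : h • m ∈ rad Re := by
  obtain ⟨w, hw, rfl⟩ := hm
  obtain ⟨g, hg, rfl⟩ := Re.surj h
  refine ⟨g * w * g⁻¹, ?_, Re.act g hg w (mem_NN.1 hw).1⟩
  have h1 := NN_smul D hw g
  have h2 : g • p = p := D.fix_of_centralizes fun a ha => (mem_centralizer_iff.1 hg a ha).symm
  rwa [h2] at h1

/-- the stabiliser of `lam` modulo `N_p` -/
def stR (Re : Four.Real R W p ρ π) (lam : Subgroup M) : Subgroup H where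
  carrier := {h | ∀ b ∈ lam, (h • b) * b⁻¹ ∈ rad Re}
  one_mem' := fun b _ => by rw [one_smul, mul_inv_cancel]; exact one_mem _
  mul_mem' := by
    rintro h h' hh hh' b hb
    have e : ((h * h') • b) * b⁻¹ = h • ((h' • b) * b⁻¹) * ((h • b) * b⁻¹) := by
      rw [mul_smul, smul_mul', smul_inv', mul_assoc, ← mul_assoc (h • b)⁻¹, inv_mul_cancel, one_mul]
    rw [e]
    exact mul_mem (rad_smul D Re h (hh' b hb)) (hh b hb)
  inv_mem' := by
    rintro h hh b hb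
    have e : (h⁻¹ • b) * b⁻¹ = h⁻¹ • ((h • b) * b⁻¹)⁻¹ := by
      rw [mul_inv_rev, inv_inv, smul_mul', smul_inv', inv_smul_smul]
    rw [e]
    exact rad_smul D Re _ (inv_mem (hh b hb))

theorem mem_stR (Re : Four.Real R W p ρ π) {lam : Subgroup M} {h : H} :
    h ∈ stR D Re lam ↔ ∀ b ∈ lam, (h • b) * b⁻¹ ∈ rad Re := Iff.rfl

omit D in
theorem exists_lam_ne (F : RD inc R W V p l Sy ρ π ζ T lam U Kh) : ∃ a ∈ lam, a ≠ 1 := by
  by_contra hcon
  push Not at hcon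
  have h1 : lam = ⊥ := by
    rw [eq_bot_iff]
    exact fun a ha => mem_bot.2 (hcon a ha)
  have h2 := F.flag.four
  rw [h1, Subgroup.card_bot] at h2
  omega

/-- **`fx`** at a realised flag -/
theorem exists_fx_base (F : RD inc R W V p l Sy ρ π ζ T lam U Kh) :
    ∃ e v, NV R W V p l e ∧ v ∈ V l ∧ v ∉ R p ∧ ∀ g, (∀ r ∈ R p, g * r = r * g) →
      (∀ u ∈ V l, g * u * g⁻¹ * u⁻¹ ∈ NN R W p) → g * (e * v) * g⁻¹ * (e * v)⁻¹ ∈ R p := by
  have Re := F.re
  haveI := F.flag.finH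
  obtain ⟨a, ha, ha1⟩ := exists_lam_ne F
  obtain ⟨v, hv, hva⟩ := (F.mlam a).1 ha
  have hvW : v ∈ W p := D.V_le p l F.pl hv
  obtain ⟨m, ⟨e, he, rfl⟩, hfix⟩ := exists_fixed F.flag.sq F.flag.ndvd (Γ' := stR D Re lam) (N := rad Re) (a := a)
    (fun t ht => by
      rw [mem_stR]
      intro b hb
      rw [F.flag.fix t ht b hb, mul_inv_cancel]
      exact one_mem _) (fun t ht => F.flag.fix t ht a ha) (fun g hg => (mem_stR D Re).1 hg a ha)
  have heW := (mem_NN.1 he).1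
  have hC : ∀ {g : G}, (∀ r ∈ R p, g * r = r * g) → g ∈ centralizer (R p : Set G) := fun hg =>
    mem_centralizer_iff.2 fun r hr => (hg r hr).symm
  refine ⟨e, v, ⟨he, fun c hc => ?_⟩, hv, fun hvR => ha1 ?_, fun g hg hgu => ?_⟩
  · have hcR := hC (cent_R D F.pl hc)
    have h1 : ∀ b ∈ lam, ρ c • b = b := by
      intro b hb
      obtain ⟨u, hu, rfl⟩ := (F.mlam b).1 hb
      rw [← Re.act c hcR u (D.V_le p l F.pl hu)]
      have h2 := mem_centralizer_iff.1 hc u hu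
      rw [← h2, mul_inv_cancel_right]
    have h2 : ρ c ∈ stR D Re lam := by
      rw [mem_stR]
      intro b hb
      rw [h1 b hb, mul_inv_cancel]; exact one_mem _
    have h3 := hfix _ h2
    rw [smul_mul', h1 a ha] at h3
    exact (comm_mem_iff Re D hcR heW).2 (mul_right_cancel h3)
  · rw [← hva]
    exact (Re.pker v hvW).2 hvR
  · have hgR := hC hg
    have h2 : ρ g ∈ stR D Re lam := by
      rw [mem_stR]
      intro b hb
      obtain ⟨u, hu, rfl⟩ := (F.mlam b).1 hb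
      rw [← π_comm Re D hgR (D.V_le p l F.pl hu)]
      exact ⟨_, hgu u hu, rfl⟩
    refine (comm_mem_iff Re D hgR (mul_mem heW hvW)).2 ?_
    rw [Re.pmul e heW v hvW, hva]
    exact hfix _ h2

theorem exists_fx (F : Frm inc R W V p l Sy ρ π ζ T lam U Kh) (x : X) (m : L) (hx : inc x m) :
    ∃ e v, NV R W V x m e ∧ v ∈ V m ∧ v ∉ R x ∧ ∀ g, (∀ r ∈ R x, g * r = r * g) →
      (∀ u ∈ V m, g * u * g⁻¹ * u⁻¹ ∈ NN R W x) → g * (e * v) * g⁻¹ * (e * v)⁻¹ ∈ R x := by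
  obtain ⟨Sy', ρ', π', ζ', F'⟩ := F.at_flag D hx
  exact exists_fx_base D F'.toRD

theorem KK_iff {k : G} : KK R W p k ↔ k ∈ centralizer (R p : Set G) ∧ ∀ w ∈ W p, k * w * k⁻¹ * w⁻¹ ∈ R p := by
  rw [KK, mem_centralizer_iff]
  exact and_congr_left fun _ => forall₂_congr fun r _ => eq_comm

/-- `K_p` on `V_l` at a realised flag -/
theorem kf_base (F : RD inc R W V p l Sy ρ π ζ T lam U Kh) {k v : G} (hk : KK R W p k) (hv : v ∈ V l)
    (hvR : v ∉ R p) (hkv : k * v = v * k) : k ∈ centralizer (V l : Set G) := by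
  have Re := F.re
  obtain ⟨hkc, hkW⟩ := (KK_iff D).1 hk
  obtain ⟨φ, hφ, h1⟩ := F.kh' k hkc hkW
  have hvW := D.V_le p l F.pl hv
  have h2 : φ (π v) = 1 := by
    apply F.inj
    rw [map_one, ← h1 v hvW]
    exact comm_iff_eq_one.2 hkv
  have h3 : π v ≠ 1 := fun e => hvR ((Re.pker v hvW).1 e)
  rw [mem_centralizer_iff]
  intro u hu
  have h4 := F.flag.ti φ hφ (π v) ((F.mlam _).2 ⟨v, hv, rfl⟩) h3 h2 (π u) ((F.mlam _).2 ⟨u, hu, rfl⟩)
  have h5 := h1 u (D.V_le p l F.pl hu)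
  rw [h4, map_one] at h5
  exact (comm_iff_eq_one.1 h5).symm

theorem ek_base (F : RD inc R W V p l Sy ρ π ζ T lam U Kh) : ∃ k, KK R W p k ∧ k ∉ centralizer (V l : Set G) := by
  obtain ⟨a, ha, ha1⟩ := exists_lam_ne F
  obtain ⟨v, hv, hva⟩ := (F.mlam a).1 ha
  obtain ⟨φ, hφ, h1⟩ := F.flag.f1 a ha ha1
  obtain ⟨k, hk, hkW⟩ := F.kh φ hφ
  refine ⟨k, (KK_iff D).2 ⟨hk, fun w hw => ?_⟩, fun hkV => h1 ?_⟩
  · rw [hkW w hw]
    exact (F.ran _).2 ⟨_, rfl⟩
  · apply F.inj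
    rw [map_one, ← hva, ← hkW v (D.V_le p l F.pl hv)]
    exact comm_iff_eq_one.2 (mem_centralizer_iff.1 hkV v hv).symm

/-- **`Hy` over `Frm`** -/
theorem hy_of_frm [Finite G] (F : Frm inc R W V p l Sy ρ π ζ T lam U Kh) (hn : 2 ≤ n)
    (hm : ∀ k < n, ∀ a b, Walk inc k a b → Com W a b) (hV : Function.Injective V)
    (t6 : ∀ l u, u ∈ centralizer (V l : Set G) → u * u = 1 → (∀ c ∈ centralizer (V l : Set G), c * u = u * c) →
      u ∈ V l)
    (hE : ∀ a b, Crit inc W n a b → ExP inc R W V n a b) : Hy inc R W V s t n where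
  D := D
  two := hn
  min := hm
  lin m m' x y hx hy hx' hy' hne := by
    apply hV
    have key : ∀ m m', inc x m → inc y m → inc x m' → inc y m' → V m ≤ V m' := by
      intro m m' hx hy hx' hy' v hv
      obtain ⟨r, hr, r', hr', rfl⟩ := F.line_all D m x y hx hy hne v hv
      exact mul_mem (D.R_le x m' hx' hr) (D.R_le y m' hy' hr')
    exact le_antisymm (key m m' hx hy hx' hy') (key m' m hx' hy' hx hy)
  tr m m' x y x' y' hx hy hne hx' hy' hne' := by
    obtain ⟨g, rfl, rfl⟩ := F.fl x m hx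
    obtain ⟨g', rfl, rfl⟩ := F.fl x' m' hx'
    have h1 : inc (g' • g⁻¹ • y) (g' • l) := D.inc_smul g' _ _ (inc_inv_smul D hy)
    have h2 : g' • g⁻¹ • y ≠ g' • p := by
      intro e
      apply hne
      have e1 := MulAction.injective g' e
      rw [← e1, smul_inv_smul]
    have F' := F.smul D g'
    obtain ⟨k, hk, hkW, e⟩ := F'.tr y' (g' • g⁻¹ • y) hy' hne'.symm h1 h2
    have hK : KK R W (g' • p) k := (KK_iff D).2 ⟨hk, hkW⟩
    have h3 : k • g' • l = g' • l := by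
      apply hV
      have h5 : ∀ k, KK R W (g' • p) k → ∀ v ∈ V (g' • l), k * v * k⁻¹ ∈ V (g' • l) := by
        intro k hk v hv
        have h6 := D.R_le _ _ hx' (hk.2 v (D.V_le _ _ hx' hv))
        have := mul_mem h6 hv
        rwa [inv_mul_cancel_right] at this
      apply le_antisymm
      · intro v hv
        have h6 := h5 k hK _ ((mem_V_smul D).1 hv)
        have e2 : k * (k⁻¹ * v * k) * k⁻¹ = v := by group
        rwa [e2] at h6
      · intro v hv
        rw [mem_V_smul D]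
        have h6 := h5 k⁻¹ hK.inv v hv
        rwa [inv_inv] at h6
    refine ⟨k * g' * g⁻¹, ?_, ?_, ?_⟩
    · rw [mul_smul, mul_smul, inv_smul_smul]
      exact KK.fix D hK
    · rw [mul_smul, mul_smul]
      exact e
    · rw [mul_smul, mul_smul, inv_smul_smul]
      exact h3
  kt m x y z hx hy hz hyx hzx := by
    obtain ⟨Sy', ρ', π', ζ', F'⟩ := F.at_flag D hx
    obtain ⟨k, hk, hkW, e⟩ := F'.tr z y hz hzx hy hyx
    exact ⟨k, (KK_iff D).2 ⟨hk, hkW⟩, e⟩
  kf m x k v hx hk hv hvR hkv := by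
    obtain ⟨Sy', ρ', π', ζ', F'⟩ := F.at_flag D hx
    exact kf_base D F'.toRD hk hv hvR hkv
  ek m x hx := by
    obtain ⟨Sy', ρ', π', ζ', F'⟩ := F.at_flag D hx
    exact ek_base D F'.toRD
  t6 := t6
  xx a b hc := (hE a b hc).cen
  no := F.noOver D
  ex a b hc := by
    have h1 := hE a b hc
    obtain ⟨r, m, hr, hrm, hbm⟩ := hc.symm.last (by omega)
    have h2 := (h1.ex r m hr hrm hbm).eq (W b ⊓ centralizer (W a : Set G)) (W a ⊓ centralizer (W b : Set G)) ?_ ?_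
    · exact h2.le
    · intro u
      constructor
      · rintro ⟨hu, hu'⟩
        refine ⟨hu, fun w hw => ?_⟩
        rw [comm_iff_eq_one.2 (mem_centralizer_iff.1 hu' w hw).symm]
        exact one_mem _
      · rintro ⟨hu, hu'⟩
        exact ⟨hu, mem_centralizer_iff.2 fun w hw => (h1.good u hu hu' w hw).symm⟩
    · intro u
      constructor
      · rintro ⟨hu, hu'⟩
        refine ⟨hu, fun w hw => ?_⟩
        rw [comm_iff_eq_one.2 (mem_centralizer_iff.1 hu' w hw)]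
        exact one_mem _
      · rintro ⟨hu, hu'⟩
        exact ⟨hu, mem_centralizer_iff.2 fun w hw => h1.cen u hu hu' w hw⟩
  ke a b hc := (hE a b hc).good

/-- **The end of section 7**: no critical pair `(a, b)` with `f ∈ N_b`, `[f, W_a] ≠ 1`, `[f, W_a] ≤ N_a`. -/
theorem false_of_frm [Finite G] (F : Frm inc R W V p l Sy ρ π ζ T lam U Kh) (hn : 2 ≤ n) (hV : Function.Injective V)
    (t6 : ∀ l u, u ∈ centralizer (V l : Set G) → u * u = 1 → (∀ c ∈ centralizer (V l : Set G), c * u = u * c) →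
      u ∈ V l)
    (hE : ∀ a b, Crit inc W n a b → ExP inc R W V n a b) {a b : X} (hc : Crit inc W n a b) {f : G}
    (hf : f ∈ NN R W b) (hC : ∀ w ∈ W a, f * w * f⁻¹ * w⁻¹ ∈ NN R W a) (hm : ∃ w ∈ W a, f * w ≠ w * f) : False :=
  (hy_of_frm D F hn hc.min hV t6 hE).false_of hc hf hC hm fun m hm => exists_fx D F a m hm

end

end Cfsg.Agent.Omega.NO3S.WQ
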