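import Cfsg.Agent.Omega.NOThree.LemmaM

/-!
# FullB (`q ≥ 4`, helper471 #21459, section 7; all `q`, `n ≥ 2`): frame, canonical groups, (7.1), (7.2)

Over `Pts.Geom`.

* `KK R W x` (predicate) : `k ∈ K_x`; `NN R W x` : the subgroup `N_x = C_{W_x}(K_x)`;
* `NV R W V x l w` : `w ∈ N_x`, `[w, C_G(V_l)] ≤ R_x` (canonical vectors of the flag `(x, l)`);
* `Hy inc R W V s t n` : the world;
* `Hy.one` (7.1), `Hy.two` (7.2), `Wp` = `W'_p`, `Hy.wp_comm`, `Hy.wp_sq`, `Hy.wp_smul`, `Hy.wp_le_o2`.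
-/

set_option autoImplicit false
set_option linter.unusedSectionVars false
set_option linter.unusedVariables false

namespace Cfsg.Agent.Omega.NO3S.WQ

open Subgroup Cfsg Cfsg.Agent.ZN Cfsg.Agent.MinSimple.VModule Cfsg.Agent.Omega.NOThree.Pts
open Cfsg.Agent.Omega.NOThree.LemmaM (NoOver)

variable {G X L : Type*} [Group G] [MulAction G X] [MulAction G L]
variable {inc : X → L → Prop} {R W : X → Subgroup G} {V : L → Subgroup G} {s t n : ℕ}

/-- `k ∈ K_x` -/
def KK (R W : X → Subgroup G) (x : X) (k : G) : Prop :=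
  (∀ r ∈ R x, k * r = r * k) ∧ ∀ w ∈ W x, k * w * k⁻¹ * w⁻¹ ∈ R x

/-- `N_x = C_{W_x}(K_x)` -/
def NN (R W : X → Subgroup G) (x : X) : Subgroup G := W x ⊓ centralizer {k | KK R W x k}

theorem mem_NN {x : X} {w : G} : w ∈ NN R W x ↔ w ∈ W x ∧ ∀ k, KK R W x k → k * w = w * k := by
  rw [NN, mem_inf, mem_centralizer_iff]
  rfl

/-- the canonical vectors of the flag `(x, l)` -/
def NV (R W : X → Subgroup G) (V : L → Subgroup G) (x : X) (l : L) (w : G) : Prop :=
  w ∈ NN R W x ∧ ∀ c ∈ centralizer (V l : Set G), c * w * c⁻¹ * w⁻¹ ∈ R x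

/-- **the world** -/
structure Hy (inc : X → L → Prop) (R W : X → Subgroup G) (V : L → Subgroup G) (s t n : ℕ) : Prop where
  D : Geom inc R W V s t
  two : 2 ≤ n
  min : ∀ k < n, ∀ a b, Walk inc k a b → Com W a b
  /-- at most one line on two points -/
  lin : ∀ l l' x y, inc x l → inc y l → inc x l' → inc y l' → x ≠ y → l = l'
  /-- `2`-transitivity on the lines -/
  tr : ∀ l l' x y x' y', inc x l → inc y l → x ≠ y → inc x' l' → inc y' l' → x' ≠ y' →
    ∃ g : G, g • x = x' ∧ g • y = y' ∧ g • l = l'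
  /-- `K_x` is transitive on the points `≠ x` of `l` -/
  kt : ∀ l x y z, inc x l → inc y l → inc z l → y ≠ x → z ≠ x → ∃ k, KK R W x k ∧ k • y = z
  /-- `K_x / C_{K_x}(V_l)` acts freely on `V_l - R_x` -/
  kf : ∀ l x k v, inc x l → KK R W x k → v ∈ V l → v ∉ R x → k * v = v * k → k ∈ centralizer (V l : Set G)
  ek : ∀ l x, inc x l → ∃ k, KK R W x k ∧ k ∉ centralizer (V l : Set G)
  /-- (T6) -/
  t6 : ∀ l u, u ∈ centralizer (V l : Set G) → u * u = 1 → (∀ c ∈ centralizer (V l : Set G), c * u = u * c) → u ∈ V l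
  /-- (X) -/
  xx : ∀ p q, Crit inc W n p q → ∀ w ∈ W p, (∀ b ∈ W q, b * w * b⁻¹ * w⁻¹ ∈ R p) → ∀ b ∈ W q, b * w = w * b
  no : NoOver inc R W V
  /-- exactness -/
  ex : ∀ p q, Crit inc W n p q → (W q ⊓ centralizer (W p : Set G)).relIndex (W q) ≤
    (W p ⊓ centralizer (W q : Set G)).relIndex (W p)
  /-- `W_q ∩ K_p = C_{W_q}(W_p)` -/
  ke : ∀ p q, Crit inc W n p q → ∀ f ∈ W q, (∀ w ∈ W p, f * w * f⁻¹ * w⁻¹ ∈ R p) → ∀ w ∈ W p, f * w = w * f

theorem cgm {g a b : G} (h : a = b) : g * a * g⁻¹ = g * b * g⁻¹ := by rw [h]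

theorem comm_iff_eq_one {a b : G} : a * b * a⁻¹ * b⁻¹ = 1 ↔ a * b = b * a := by
  rw [mul_inv_eq_one, mul_inv_eq_iff_eq_mul]

section KKb

variable {x : X}

theorem KK.mul {a b : G} (ha : KK R W x a) (hb : KK R W x b) : KK R W x (a * b) := by
  refine ⟨fun r hr => ?_, fun w hw => ?_⟩
  · rw [mul_assoc, hb.1 r hr, ← mul_assoc, ha.1 r hr, mul_assoc]
  · have e : a * b * w * (a * b)⁻¹ * w⁻¹ = (a * (b * w * b⁻¹ * w⁻¹) * a⁻¹) * (a * w * a⁻¹ * w⁻¹) := by group
    rw [e, ha.1 _ (hb.2 w hw), mul_inv_cancel_right]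
    exact mul_mem (hb.2 w hw) (ha.2 w hw)

theorem KK.inv {a : G} (ha : KK R W x a) : KK R W x a⁻¹ := by
  have h1 : ∀ r ∈ R x, a⁻¹ * r = r * a⁻¹ := fun r hr => by
    have := ha.1 r hr
    calc a⁻¹ * r = a⁻¹ * (r * a) * a⁻¹ := by group
      _ = a⁻¹ * (a * r) * a⁻¹ := by rw [this]
      _ = r * a⁻¹ := by group
  refine ⟨h1, fun w hw => ?_⟩
  have e : a⁻¹ * w * a⁻¹⁻¹ * w⁻¹ = a⁻¹ * (a * w * a⁻¹ * w⁻¹)⁻¹ * a⁻¹⁻¹ := by group
  rw [e, h1 _ (inv_mem (ha.2 w hw)), mul_inv_cancel_right]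
  exact inv_mem (ha.2 w hw)

end KKb

section geo

variable (D : Geom inc R W V s t)
include D

theorem KK.smul {x : X} {k : G} (hk : KK R W x k) (g : G) : KK R W (g • x) (g * k * g⁻¹) := by
  refine ⟨fun r hr => ?_, fun w hw => ?_⟩
  · have h1 := cgm (g := g) (hk.1 _ ((D.R_smul_iff g).1 hr))
    have e1 : g * (k * (g⁻¹ * r * g)) * g⁻¹ = g * k * g⁻¹ * r := by group
    have e2 : g * (g⁻¹ * r * g * k) * g⁻¹ = r * (g * k * g⁻¹) := by group
    rwa [e1, e2] at h1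
  · have h1 := hk.2 _ ((D.W_smul_iff g).1 hw)
    rw [D.R_smul_iff]
    have e : g⁻¹ * (g * k * g⁻¹ * w * (g * k * g⁻¹)⁻¹ * w⁻¹) * g =
        k * (g⁻¹ * w * g) * k⁻¹ * (g⁻¹ * w * g)⁻¹ := by group
    rwa [e]

theorem KK.conj {x : X} {k g : G} (hk : KK R W x k) (hg : g • x = x) : KK R W x (g * k * g⁻¹) := by
  have := KK.smul D hk g
  rwa [hg] at this

/-- `k ∈ K_x` normalises `W_x` and fixes `x` -/
theorem KK.fix {x : X} {k : G} (hk : KK R W x k) : k • x = x := D.fix_of_centralizes hk.1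

theorem NN_smul {x : X} {w : G} (hw : w ∈ NN R W x) (g : G) : g * w * g⁻¹ ∈ NN R W (g • x) := by
  rw [mem_NN] at hw ⊢
  refine ⟨D.W_smul g x w hw.1, fun k hk => ?_⟩
  have h1 := KK.smul D hk g⁻¹
  rw [inv_smul_smul] at h1
  have h2 := cgm (g := g) (hw.2 _ h1)
  have e1 : g * (g⁻¹ * k * g⁻¹⁻¹ * w) * g⁻¹ = k * (g * w * g⁻¹) := by group
  have e2 : g * (w * (g⁻¹ * k * g⁻¹⁻¹)) * g⁻¹ = g * w * g⁻¹ * k := by group
  rwa [e1, e2] at h2

theorem mem_V_smul {l : L} {g a : G} : a ∈ V (g • l) ↔ g⁻¹ * a * g ∈ V l := by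
  constructor
  · intro h
    have := D.V_smul g⁻¹ _ a h
    rwa [inv_smul_smul, inv_inv] at this
  · intro h
    have := D.V_smul g _ _ h
    have e : g * (g⁻¹ * a * g) * g⁻¹ = a := by group
    rwa [e] at this

theorem cent_smul {l : L} {c : G} (hc : c ∈ centralizer (V l : Set G)) (g : G) :
    g * c * g⁻¹ ∈ centralizer (V (g • l) : Set G) := by
  rw [mem_centralizer_iff] at hc ⊢
  intro v hv
  have h1 := cgm (g := g) (hc _ ((mem_V_smul D).1 hv))
  have e1 : g * (g⁻¹ * v * g * c) * g⁻¹ = v * (g * c * g⁻¹) := by group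
  have e2 : g * (c * (g⁻¹ * v * g)) * g⁻¹ = g * c * g⁻¹ * v := by group
  rwa [e1, e2] at h1

theorem inc_inv_smul {x : X} {l : L} {g : G} (h : inc x (g • l)) : inc (g⁻¹ • x) l := by
  have := D.inc_smul g⁻¹ _ _ h
  rwa [inv_smul_smul] at this

theorem cent_fix {x : X} {l : L} (hx : inc x l) {c : G} (hc : c ∈ centralizer (V l : Set G)) : c • x = x :=
  D.cent_V_le hx hc

theorem cent_R {x : X} {l : L} (hx : inc x l) {c : G} (hc : c ∈ centralizer (V l : Set G)) :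
    ∀ r ∈ R x, c * r = r * c := fun r hr => (mem_centralizer_iff.1 hc r (D.R_le x l hx hr)).symm

theorem NV.smul {x : X} {l : L} {w : G} (hw : NV R W V x l w) (g : G) :
    NV R W V (g • x) (g • l) (g * w * g⁻¹) := by
  refine ⟨NN_smul D hw.1 g, fun c hc => ?_⟩
  have h1 := cent_smul D hc g⁻¹
  rw [inv_smul_smul] at h1
  rw [D.R_smul_iff]
  have h2 := hw.2 _ h1
  have e : g⁻¹ * (c * (g * w * g⁻¹) * c⁻¹ * (g * w * g⁻¹)⁻¹) * g =
      g⁻¹ * c * g⁻¹⁻¹ * w * (g⁻¹ * c * g⁻¹⁻¹)⁻¹ * w⁻¹ := by group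
  rwa [e]

omit D in
theorem NV.mem_W {x : X} {l : L} {w : G} (hw : NV R W V x l w) : w ∈ W x := (mem_NN.1 hw.1).1

omit D in
theorem NV.comm {x : X} {l : L} {w k : G} (hw : NV R W V x l w) (hk : KK R W x k) : k * w = w * k :=
  (mem_NN.1 hw.1).2 k hk

theorem NV.mul {x : X} {l : L} (hx : inc x l) {a b : G} (ha : NV R W V x l a) (hb : NV R W V x l b) :
    NV R W V x l (a * b) := by
  refine ⟨mul_mem ha.1 hb.1, fun c hc => ?_⟩
  have h1 := hb.2 c hc
  have h2 := D.comm x a ha.mem_W _ (D.R_le_W x h1)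
  have e : c * (a * b) * c⁻¹ * (a * b)⁻¹ = (c * a * c⁻¹ * a⁻¹) * (a * (c * b * c⁻¹ * b⁻¹) * a⁻¹) := by group
  rw [e, h2, mul_inv_cancel_right]
  exact mul_mem (ha.2 c hc) h1

theorem NV.of_R {x : X} {l : L} (hx : inc x l) {r : G} (hr : r ∈ R x) : NV R W V x l r := by
  refine ⟨mem_NN.2 ⟨D.R_le_W x hr, fun k hk => hk.1 r hr⟩, fun c hc => ?_⟩
  have e : c * r * c⁻¹ * r⁻¹ = 1 := comm_iff_eq_one.2 (cent_R D hx hc r hr)
  rw [e]; exact one_mem _

end geo

/-- `W'_p` -/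
def Wp (inc : X → L → Prop) (R W : X → Subgroup G) (V : L → Subgroup G) (p : X) : Subgroup G :=
  closure {a | a ∈ W p ∨ ∃ l y, inc p l ∧ inc y l ∧ NV R W V y l a}

theorem W_le_Wp (p : X) : W p ≤ Wp inc R W V p := fun _ ha => subset_closure (Or.inl ha)

theorem mem_Wp {p y : X} {l : L} {a : G} (hp : inc p l) (hy : inc y l) (ha : NV R W V y l a) :
    a ∈ Wp inc R W V p := subset_closure (Or.inr ⟨l, y, hp, hy, ha⟩)

theorem closure_comm {A B : Set G} (h : ∀ a ∈ A, ∀ b ∈ B, a * b = b * a) :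
    ∀ a ∈ closure A, ∀ b ∈ closure B, a * b = b * a := by
  have h1 : closure A ≤ centralizer B := by
    rw [closure_le]
    intro a ha
    rw [SetLike.mem_coe, mem_centralizer_iff]
    exact fun b hb => (h a ha b hb).symm
  have h2 : closure B ≤ centralizer ((closure A : Subgroup G) : Set G) := by
    rw [closure_le]
    intro b hb
    rw [SetLike.mem_coe, mem_centralizer_iff]
    intro a ha
    exact (mem_centralizer_iff.1 (h1 ha) b hb).symm
  intro a ha b hb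
  exact mem_centralizer_iff.1 (h2 hb) a ha

theorem isPGroup_of_sq {A : Subgroup G} (hA : ∀ a ∈ A, a * a = 1) : IsPGroup 2 A := fun a =>
  ⟨1, Subtype.ext (by
    rw [pow_one, pow_two]
    exact hA a a.2)⟩

namespace Hy

variable (h : Hy inc R W V s t n)
include h

theorem exists_inc (l : L) : ∃ x, inc x l := by
  obtain ⟨x, hx, -⟩ := h.D.cover l 1 (one_mem _)
  exact ⟨x, hx⟩

theorem sqV {l : L} {v : G} (hv : v ∈ V l) : v * v = 1 := by
  obtain ⟨x, hx⟩ := h.exists_inc l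
  exact h.D.sq x v (h.D.V_le x l hx hv)

/-- `N_x ∩ V_l = R_x` -/
theorem NN_inf {x : X} {l : L} (hx : inc x l) {a : G} (ha : a ∈ NN R W x) (haV : a ∈ V l) : a ∈ R x := by
  by_contra haR
  obtain ⟨k, hk, hkV⟩ := h.ek l x hx
  exact hkV (h.kf l x k a hx hk haV haR ((mem_NN.1 ha).2 k hk))

/-- `K_p` fixes the lines on `p` -/
theorem KK_line {p : X} {l : L} (hp : inc p l) {k : G} (hk : KK R W p k) : k • l = l := by
  obtain ⟨c, hc, hcV⟩ := h.ek l p hp
  -- a point of `l` different from `p`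
  have h1 : ∃ x, inc x l ∧ x ≠ p := by
    by_contra hcon
    push Not at hcon
    apply hcV
    rw [mem_centralizer_iff]
    intro v hv
    obtain ⟨z, hz, hvz⟩ := h.D.cover l v hv
    rw [hcon z hz] at hvz
    exact (hc.1 v hvz).symm
  obtain ⟨x, hx, hxp⟩ := h1
  obtain ⟨r, hr, hr1⟩ := h.D.exists_ne x
  have hrV : r ∈ V l := h.D.R_le x l hx hr
  have h2 : k * r * k⁻¹ ∈ V l := by
    have h3 := h.D.R_le p l hp (hk.2 r (h.D.V_le p l hp hrV))
    have := mul_mem h3 hrV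
    rwa [inv_mul_cancel_right] at this
  obtain ⟨z, hz, hrz⟩ := h.D.cover l _ h2
  have h4 : z = k • x := h.D.ti _ _ _ hrz (h.D.R_smul k x r hr) (fun e => hr1 (by simpa using e))
  have hkx : inc (k • x) l := h4 ▸ hz
  have hkp := KK.fix h.D hk
  refine h.lin (k • l) l (k • x) p (h.D.inc_smul k _ _ hx) ?_ hkx hp ?_
  · have := h.D.inc_smul k _ _ hp
    rwa [hkp] at this
  · intro e
    exact hxp (MulAction.injective k (e.trans hkp.symm))

/-- distinct lines on `p` meet in `R_p` -/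
theorem V_inf {p : X} {l l' : L} (hp : inc p l) (hp' : inc p l') (hne : l ≠ l') {v : G} (hv : v ∈ V l)
    (hv' : v ∈ V l') : v ∈ R p := by
  by_cases hv1 : v = 1
  · rw [hv1]; exact one_mem _
  obtain ⟨z, hz, hvz⟩ := h.D.cover l v hv
  obtain ⟨z', hz', hvz'⟩ := h.D.cover l' v hv'
  obtain rfl := h.D.ti _ _ _ hvz hvz' hv1
  by_cases hzp : z = p
  · rwa [hzp] at hvz
  · exact absurd (h.lin l l' z p hz hp hz' hp' hzp) hne

/-- `W_q` centralises a line with a point at distance `< n` -/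
theorem W_le_cent_line {q x : X} {l : L} (hx : inc x l) {k : ℕ} (hk : k < n) (hw : Walk inc k q x) :
    W q ≤ centralizer (V l : Set G) := by
  intro b hb
  rw [mem_centralizer_iff]
  intro v hv
  exact (h.min k hk q x hw b hb v (h.D.V_le x l hx hv)).symm

/-- **(7.1)** -/
theorem one {q x y : X} {l : L} (hx : inc x l) (hy : inc y l) {k : ℕ} (hk : k < n) (hw : Walk inc k q x) {a : G}
    (ha : NV R W V y l a) : ∀ b ∈ W q, b * a = a * b := by
  intro b hb
  by_cases hcom : Com W q y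
  · exact hcom b hb a ha.mem_W
  · have hw' : Walk inc n q y := (hw.step hx hy).mono h.D (by omega)
    have hcr : Crit inc W n q y := ⟨hw', hcom, h.min⟩
    refine h.xx y q hcr.symm a ha.mem_W (fun b' hb' => ?_) b hb
    exact ha.2 b' (h.W_le_cent_line hx hk hw hb')

/-- **(7.2)** for the vectors -/
theorem two_comm {p q y y' : X} {l m : L} (hp : inc p l) (hq : inc q m) {k : ℕ} (hk : k < n)
    (hw : Walk inc k p q) (hy : inc y l) (hy' : inc y' m) {a b : G} (ha : NV R W V y l a)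
    (hb : NV R W V y' m b) : a * b = b * a := by
  have h1 : a ∈ centralizer (V m : Set G) := by
    rw [mem_centralizer_iff]
    intro v hv
    exact h.one hp hy hk hw.symm ha v (h.D.V_le q m hq hv)
  have h2 : b ∈ centralizer (V l : Set G) := by
    rw [mem_centralizer_iff]
    intro v hv
    exact h.one hq hy' hk hw hb v (h.D.V_le p l hp hv)
  have h3 := hb.2 a h1
  have h4 := ha.2 b h2
  have h5 : a * b * a⁻¹ * b⁻¹ ∈ R y := by
    have e : a * b * a⁻¹ * b⁻¹ = (b * a * b⁻¹ * a⁻¹)⁻¹ := by group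
    rw [e]; exact inv_mem h4
  by_cases hne : y = y'
  · subst hne
    exact h.D.comm y a ha.mem_W b hb.mem_W
  · by_contra hcon
    exact hne (h.D.ti _ _ _ h5 h3 fun e => hcon (comm_iff_eq_one.1 e))

/-- **(7.2)** -/
theorem wp_comm {p q : X} {k : ℕ} (hk : k < n) (hw : Walk inc k p q) :
    ∀ a ∈ Wp inc R W V p, ∀ b ∈ Wp inc R W V q, a * b = b * a := by
  refine closure_comm ?_
  rintro a (ha | ⟨l, y, hl, hy, ha⟩) b (hb | ⟨m, y', hm, hy', hb⟩)
  · exact h.min k hk p q hw a ha b hb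
  · exact h.one hm hy' hk hw hb a ha
  · exact (h.one hl hy hk hw.symm ha b hb).symm
  · exact h.two_comm hl hm hk hw hy hy' ha hb

theorem wp_comm' {p : X} : ∀ a ∈ Wp inc R W V p, ∀ b ∈ Wp inc R W V p, a * b = b * a :=
  h.wp_comm (k := 0) (by have := h.two; omega) (.zero p)

theorem wp_sq {p : X} : ∀ a ∈ Wp inc R W V p, a * a = 1 := by
  intro a ha
  refine closure_induction (p := fun a _ => a * a = 1) ?_ ?_ ?_ ?_ ha
  · rintro a (ha | ⟨l, y, -, -, ha⟩)
    · exact h.D.sq p a ha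
    · exact h.D.sq y a ha.mem_W
  · rw [one_mul]
  · intro a b ha hb h1 h2
    have h3 := h.wp_comm' a ha b hb
    calc a * b * (a * b) = a * (b * a) * b := by group
      _ = a * (a * b) * b := by rw [h3]
      _ = (a * a) * (b * b) := by group
      _ = 1 := by rw [h1, h2, one_mul]
  · intro a ha h1
    rw [← mul_inv_rev, h1, inv_one]

theorem wp_smul {p : X} {a : G} (ha : a ∈ Wp inc R W V p) (g : G) : g * a * g⁻¹ ∈ Wp inc R W V (g • p) := by
  refine closure_induction (p := fun a _ => g * a * g⁻¹ ∈ Wp inc R W V (g • p)) ?_ ?_ ?_ ?_ ha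
  · rintro a (ha | ⟨l, y, hl, hy, ha⟩)
    · exact W_le_Wp _ (h.D.W_smul g p a ha)
    · exact mem_Wp (h.D.inc_smul g _ _ hl) (h.D.inc_smul g _ _ hy) (ha.smul h.D g)
  · rw [mul_one, mul_inv_cancel]; exact one_mem _
  · intro a b ha hb h1 h2
    have e : g * (a * b) * g⁻¹ = (g * a * g⁻¹) * (g * b * g⁻¹) := by group
    rw [e]; exact mul_mem h1 h2
  · intro a ha h1
    have e : g * a⁻¹ * g⁻¹ = (g * a * g⁻¹)⁻¹ := by group
    rw [e]; exact inv_mem h1

theorem wp_cent {p q : X} {k : ℕ} (hk : k < n) (hw : Walk inc k p q) :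
    Wp inc R W V p ≤ centralizer (W q : Set G) := by
  intro a ha
  rw [mem_centralizer_iff]
  intro b hb
  exact (h.wp_comm hk hw a ha b (W_le_Wp q hb)).symm

/-- **(7.2)**, second part -/
theorem wp_le_o2 {p q : X} {k : ℕ} (hk : k < n) (hw : Walk inc k p q) :
    Wp inc R W V p ≤ o2 (MulAction.stabilizer G q) := by
  induction hw with
  | zero p =>
    refine le_o2 ((h.wp_cent (k := 0) hk (.zero p)).trans (h.D.cent_W_le p)) (isPGroup_of_sq h.wp_sq)
      (mem_normalizer_of_conj fun g hg a ha => ?_)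
    have h1 := h.wp_smul ha g
    have h2 : g • p = p := hg
    rwa [h2] at h1
  | @step k p y z l hpy hy hz ih =>
    have h1 := ih (by omega)
    have h2 := h.D.le_o2_cent hy h1 ((h.wp_cent (by omega) hpy).trans (centralizer_le (h.D.V_le y l hy)))
    exact h.D.le_o2_stab hz h2 (h.wp_cent hk (hpy.step hy hz))

/-- for a critical pair: `W'_p ≤ O₂(C_G(V_l))`, `l` the last line -/
theorem wp_crit {p q : X} (hc : Crit inc W n p q) : ∃ r l, Walk inc (n - 1) p r ∧ inc r l ∧ inc q l ∧ r ≠ q ∧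
    Wp inc R W V p ≤ o2 (centralizer (V l : Set G)) ∧ Wp inc R W V p ≤ centralizer (W r : Set G) := by
  have h2 := h.two
  obtain ⟨r, l, hr, hrl, hql⟩ := hc.last (by omega)
  refine ⟨r, l, hr, hrl, hql, hc.ne_last (by omega) hr, ?_, h.wp_cent (by omega) hr⟩
  exact h.D.le_o2_cent hrl (h.wp_le_o2 (by omega) hr)
    ((h.wp_cent (by omega) hr).trans (centralizer_le (h.D.V_le r l hrl)))

end Hy

end Cfsg.Agent.Omega.NO3S.WQ
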