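import Cfsg.Agent.Omega.NO3S.WQ.Base

/-!
# FullB, section 7 of #21459 (helper471), all `q`, `n ≥ 2`

* `Hy.five` (7.3) : `f ∈ N_q`, `R_x ∩ W_q = 1`, `a ∈ N_{x,l}`, `p, x ∈ l`: `a a^f ∈ W_p`;
* `Hy.comm_of_five` (7.4); `Ct` : `K_y ∩ C(V_l)` centralises `N_{z,l}`, `z ≠ y`;
* `Hy.delta`, `Hy.surj` (7.5) : `a a^k ∈ N_{p,l}` for `a ∈ N_{x,l}`, `k ∈ K_p`, and all of `N_{p,l}` arises so (mod `R_p`);
* `Hy.false_of` (7.6) : the contradiction.  Input: one critical pair `(p, q)` and `f ∈ N_q` with `[f, W_p] ≠ 1`,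
  `[f, W_p] ≤ N_p`; and `fx`: some vector `e v`, `e ∈ N_{p,m}`, `v ∈ V_m - R_p`, is fixed (mod `R_p`) by the stabiliser of
  `V_m N_p` (odd orbit sum).
-/

set_option autoImplicit false
set_option linter.unusedSectionVars false
set_option linter.unusedVariables false

namespace Cfsg.Agent.Omega.NO3S.WQ

open Subgroup Cfsg Cfsg.Agent.ZN Cfsg.Agent.MinSimple.VModule Cfsg.Agent.Omega.NOThree.Pts
open Cfsg.Agent.Omega.NOThree.LemmaM (NoOver cm mem_cm relIndex_ne_zero')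

variable {G X L : Type*} [Group G] [MulAction G X] [MulAction G L]
variable {inc : X → L → Prop} {R W : X → Subgroup G} {V : L → Subgroup G} {s t n : ℕ}

theorem exists_mul_of_sup {N K : Subgroup G} (hc : ∀ a ∈ N, ∀ b ∈ K, a * b = b * a) {x : G} (hx : x ∈ N ⊔ K) :
    ∃ a ∈ N, ∃ b ∈ K, x = b * a := by
  let A : Subgroup G :=
    { carrier := {x | ∃ a ∈ N, ∃ b ∈ K, x = b * a}
      one_mem' := ⟨1, one_mem _, 1, one_mem _, by rw [one_mul]⟩
      mul_mem' := by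
        rintro _ _ ⟨a, ha, b, hb, rfl⟩ ⟨a', ha', b', hb', rfl⟩
        refine ⟨a * a', mul_mem ha ha', b * b', mul_mem hb hb', ?_⟩
        calc b * a * (b' * a') = b * (a * b') * a' := by group
          _ = b * (b' * a) * a' := by rw [hc a ha b' hb']
          _ = b * b' * (a * a') := by group
      inv_mem' := by
        rintro _ ⟨a, ha, b, hb, rfl⟩
        refine ⟨a⁻¹, inv_mem ha, b⁻¹, inv_mem hb, ?_⟩
        rw [mul_inv_rev, hc a⁻¹ (inv_mem ha) b⁻¹ (inv_mem hb)] }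
  have h1 : N ⊔ K ≤ A := sup_le (fun a ha => ⟨a, ha, 1, one_mem _, by rw [one_mul]⟩)
    (fun b hb => ⟨1, one_mem _, b, hb, by rw [mul_one]⟩)
  exact h1 hx

/-- `A ≤ N W` if `W ≤ A`, `N ≤ A` and `|A : N| ≤ |W : W ∩ N|` -/
theorem le_sup_of_relIndex [Finite G] {A N W : Subgroup G} (hN : N ≤ A) (hW : W ≤ A)
    (h : N.relIndex A ≤ N.relIndex W) : A ≤ N ⊔ W := by
  have h1 := relIndex_mul_relIndex N (N ⊔ W) A le_sup_left (sup_le hN hW)
  have h2 : N.relIndex W ≤ N.relIndex (N ⊔ W) := relIndex_le_of_le_right le_sup_right (relIndex_ne_zero' _ _)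
  have h3 : (N ⊔ W).relIndex A = 1 := by
    have h4 : N.relIndex (N ⊔ W) * (N ⊔ W).relIndex A ≤ N.relIndex (N ⊔ W) * 1 := by
      rw [h1, mul_one]; exact h.trans h2
    have h5 := Nat.le_of_mul_le_mul_left h4 (Nat.pos_of_ne_zero (relIndex_ne_zero' _ _))
    have h6 : (N ⊔ W).relIndex A ≠ 0 := relIndex_ne_zero' _ _
    omega
  exact relIndex_eq_one.1 h3

/-- `K_y ∩ C(V_l)` centralises `N_{z,l}` for `z ≠ y` -/
def Ct (inc : X → L → Prop) (R W : X → Subgroup G) (V : L → Subgroup G) : Prop :=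
  ∀ l y z k a, inc y l → inc z l → z ≠ y → KK R W y k → k ∈ centralizer (V l : Set G) → NV R W V z l a →
    k * a = a * k

/-- `X_l` -/
def XX (inc : X → L → Prop) (R W : X → Subgroup G) (V : L → Subgroup G) (l : L) : Subgroup G :=
  closure {a | a ∈ V l ∨ ∃ y, inc y l ∧ NV R W V y l a}

/-- `E_p = {e ∈ X_l : [e, C(V_l)] ≤ R_p}` -/
def EE (inc : X → L → Prop) (R W : X → Subgroup G) (V : L → Subgroup G) (p : X) (l : L) (e : G) : Prop :=
  e ∈ XX inc R W V l ∧ ∀ c ∈ centralizer (V l : Set G), c * e * c⁻¹ * e⁻¹ ∈ R p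

namespace Hy

variable (h : Hy inc R W V s t n)
include h

/-- **(7.3)** -/
theorem five [Finite G] {p q x : X} {l : L} (hc : Crit inc W n p q) {f a : G} (hf : f ∈ NN R W q) (hp : inc p l)
    (hx : inc x l) (hxq : ∀ u ∈ R x, u ∈ W q → u = 1) (ha : NV R W V x l a) : a * (f * a * f⁻¹) ∈ W p := by
  have h2 := h.two
  have D := h.D
  obtain ⟨r, m, hr, hrm, hqm, hrq, hle, hcr⟩ := h.wp_crit hc
  set A : Subgroup G := closure {a | a ∈ W p ∨
    ∃ l x, inc p l ∧ inc x l ∧ (∀ u ∈ R x, u ∈ W q → u = 1) ∧ NV R W V x l a} with hA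
  have hWA : W p ≤ A := fun a ha => subset_closure (Or.inl ha)
  have hAW : A ≤ Wp inc R W V p := by
    rw [hA, closure_le]
    rintro a (ha | ⟨l, x, hl, hx, -, ha⟩)
    · exact W_le_Wp _ ha
    · exact mem_Wp hl hx ha
  have hcV : Wp inc R W V p ≤ centralizer (V m : Set G) := hle.trans (o2_le _)
  have hfq : ∀ a ∈ Wp inc R W V p, a • q = q := fun a ha => cent_fix D hqm (hcV ha)
  have hfp : ∀ b ∈ W q, b • p = p := fun b hb => hc.symm.fix D (by omega) hb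
  have hAR : ∀ a ∈ A, ∀ c ∈ R q, a * c = c * a := fun a ha c hc' => cent_R D hqm (hcV (hAW ha)) c hc'
  have hqR : ∀ a ∈ W q, ∀ c ∈ R q, a * c = c * a := fun a ha c hcc => D.comm q a ha c (D.R_le_W q hcc)
  have hC : ∀ u, u ∈ cm (W q) A (R q) hqR ↔ u ∈ W q ∧ ∀ a ∈ A, a * u * a⁻¹ * u⁻¹ ∈ R q := by
    intro u
    rw [mem_cm]
    refine and_congr_right fun hu => forall₂_congr fun a ha => ?_
    have e : a * u * a⁻¹ * u⁻¹ = (u * a * u⁻¹ * a⁻¹)⁻¹ := by group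
    rw [e, inv_mem_iff]
  have h3 : (cm A (W q) (R q) hAR).relIndex A ≤ (cm (W q) A (R q) hqR).relIndex (W q) := by
    refine h.no q m hqm A (hAW.trans hle) (fun a ha b hb => h.wp_comm' a (hAW ha) b (hAW hb))
      (fun a ha => h.wp_sq a (hAW ha)) ?_ ?_ _ _ (fun a => mem_cm) hC
    · intro y hy hyq a ha u hu huy
      exact (mem_centralizer_iff.1 (hcr (hAW ha)) u (D.inf_le hqm hy hrm hyq.symm ⟨hu, huy⟩)).symm
    · intro a ha b hb u hu
      refine h.wp_comm' b (hAW hb) _ ?_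
      have h4 := h.wp_smul (inv_mem (hAW ha)) u
      rw [hfp u hu] at h4
      have e : a * u * a⁻¹ * u⁻¹ = a * (u * a⁻¹ * u⁻¹) := by group
      rw [e]
      exact mul_mem (hAW ha) h4
  have h4 : W q ⊓ centralizer (W p : Set G) ≤ cm (W q) A (R q) hqR := by
    rintro u ⟨hu, hup⟩
    rw [hC]
    refine ⟨hu, fun a ha => ?_⟩
    have h5 : A ≤ centralizer ({u} : Set G) := by
      rw [hA, closure_le]
      rintro a (ha | ⟨l, x, hl, hx, hxq, ha⟩)
      · rw [SetLike.mem_coe, mem_centralizer_singleton_iff]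
        exact mem_centralizer_iff.1 hup a ha
      · rw [SetLike.mem_coe, mem_centralizer_singleton_iff]
        have h6 : u * a * u⁻¹ * a⁻¹ ∈ R x :=
          ha.2 u (centralizer_le (D.V_le p l hl) hup)
        have h7 : u * a * u⁻¹ * a⁻¹ ∈ W q := by
          have e : u * a * u⁻¹ * a⁻¹ = u * (a * u⁻¹ * a⁻¹) := by group
          rw [e]
          exact mul_mem hu (D.norm_W (hfq a (mem_Wp hl hx ha)) (inv_mem hu))
        exact (comm_iff_eq_one.1 (hxq _ h6 h7)).symm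
    have h6 : a * u * a⁻¹ * u⁻¹ = 1 := comm_iff_eq_one.2 (mem_centralizer_singleton_iff.1 (h5 ha))
    rw [h6]; exact one_mem _
  set N := cm A (W q) (R q) hAR with hN
  have h5 : N.relIndex A ≤ N.relIndex (W p) := by
    calc N.relIndex A ≤ (cm (W q) A (R q) hqR).relIndex (W q) := h3
      _ ≤ (W q ⊓ centralizer (W p : Set G)).relIndex (W q) := relIndex_le_of_le_left h4 (relIndex_ne_zero' _ _)
      _ ≤ (W p ⊓ centralizer (W q : Set G)).relIndex (W p) := h.ex p q hc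
      _ ≤ (N ⊓ W p).relIndex (W p) := by
        refine relIndex_le_of_le_left ?_ (relIndex_ne_zero' _ _)
        rintro w ⟨hw, hwp⟩
        refine ⟨hwp, mem_centralizer_iff.2 fun b hb => ?_⟩
        exact (h.ke q p hc.symm w hwp (mem_cm.1 hw).2 b hb).symm
      _ = N.relIndex (W p) := inf_relIndex_right _ _
  have hNA : N ≤ A := fun a ha => (mem_cm.1 ha).1
  have h6 := le_sup_of_relIndex hNA hWA h5
  have haA : a ∈ A := subset_closure (Or.inr ⟨l, x, hp, hx, hxq, ha⟩)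
  obtain ⟨u, hu, w, hw, rfl⟩ := exists_mul_of_sup
    (fun a ha b hb => h.wp_comm' a (hAW (hNA ha)) b (W_le_Wp p hb)) (h6 haA)
  have hu' : KK R W q u := ⟨fun r hr => hAR u (hNA hu) r hr, (mem_cm.1 hu).2⟩
  obtain ⟨hfq', hfk⟩ := mem_NN.1 hf
  have h7 := hfk u hu'
  have h8 : f * w * f⁻¹ ∈ W p := D.norm_W (hfp f hfq') hw
  have h9 : u * (f * w * f⁻¹) = f * w * f⁻¹ * u := h.wp_comm' u (hAW (hNA hu)) _ (W_le_Wp p h8)
  have h10 : u * u = 1 := h.wp_sq u (hAW (hNA hu))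
  have e : w * u * (f * (w * u) * f⁻¹) = w * (f * w * f⁻¹) := by
    calc w * u * (f * (w * u) * f⁻¹) = w * (u * (f * w * f⁻¹)) * (f * u * f⁻¹) := by group
      _ = w * (f * w * f⁻¹ * u) * (u * f * f⁻¹) := by rw [h9, h7]
      _ = w * (f * w * f⁻¹) * (u * u) := by group
      _ = w * (f * w * f⁻¹) := by rw [h10, mul_one]
  rw [e]
  exact mul_mem hw h8

theorem R_inf_of {p q x : X} {m : L} (hc : Crit inc W n p q) {f : G} (hf : f ∈ W q) (hp : inc p m) (hx : inc x m)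
    (hxp : x ≠ p) (hfm : f • m ≠ m) : ∀ u ∈ R x, u ∈ W q → u = 1 := by
  intro u hu huq
  by_contra hu1
  have h2 := h.two
  have hfp : f • p = p := hc.symm.fix h.D (by omega) hf
  have hfx : f • x = x := h.D.fix hu hu1 (h.D.comm q f hf u huq)
  apply hfm
  have h3 := h.D.inc_smul f _ _ hx
  have h4 := h.D.inc_smul f _ _ hp
  rw [hfx] at h3
  rw [hfp] at h4
  exact h.lin _ _ x p h3 h4 hx hp hxp

/-- `k ∈ K_p` centralising `V_m` centralises `V_{m^f}` -/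
theorem cent_smul_of {p : X} {m : L} (hp : inc p m) {f k : G}
    (hC : ∀ w ∈ W p, f * w * f⁻¹ * w⁻¹ ∈ NN R W p) (hk : KK R W p k) (hkV : k ∈ centralizer (V m : Set G)) :
    k ∈ centralizer (V (f • m) : Set G) := by
  rw [mem_centralizer_iff]
  intro v' hv'
  have hv := (mem_V_smul h.D).1 hv'
  set v := f⁻¹ * v' * f with hvd
  have h1 := (mem_NN.1 (hC v (h.D.V_le p m hp hv))).2 k hk
  have h2 := mem_centralizer_iff.1 hkV v hv
  have e : v' = (f * v * f⁻¹ * v⁻¹) * v := by rw [hvd]; group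
  rw [e]
  calc f * v * f⁻¹ * v⁻¹ * v * k = f * v * f⁻¹ * v⁻¹ * (v * k) := by group
    _ = f * v * f⁻¹ * v⁻¹ * (k * v) := by rw [h2]
    _ = (f * v * f⁻¹ * v⁻¹ * k) * v := by group
    _ = (k * (f * v * f⁻¹ * v⁻¹)) * v := by rw [h1]
    _ = k * (f * v * f⁻¹ * v⁻¹ * v) := by group

/-- **(7.4)** -/
theorem comm_of_five [Finite G] {p q x : X} {m : L} (hc : Crit inc W n p q) {f a k : G} (hf : f ∈ NN R W q)
    (hC : ∀ w ∈ W p, f * w * f⁻¹ * w⁻¹ ∈ NN R W p) (hp : inc p m) (hx : inc x m) (hxp : x ≠ p) (hfm : f • m ≠ m)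
    (ha : NV R W V x m a) (hk : KK R W p k) (hkV : k ∈ centralizer (V m : Set G)) : k * a = a * k := by
  have h2 := h.two
  have D := h.D
  have hfq := (mem_NN.1 hf).1
  have hfp : f • p = p := hc.symm.fix D (by omega) hfq
  have hw := h.five hc hf hp hx (h.R_inf_of hc hfq hp hx hxp hfm) ha
  have ha' := ha.smul D f
  set a' := f * a * f⁻¹ with ha'd
  have hpf : inc p (f • m) := by
    have := D.inc_smul f _ _ hp
    rwa [hfp] at this
  have hxf : inc (f • x) (f • m) := D.inc_smul f _ _ hx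
  have hkV' := h.cent_smul_of hp hC hk hkV
  have h3 := ha.2 k hkV
  have h4 := ha'.2 k hkV'
  have h5 := hk.2 _ hw
  set r := k * a * k⁻¹ * a⁻¹ with hr
  set r' := k * a' * k⁻¹ * a'⁻¹ with hr'
  have hr'V : r' ∈ V (f • m) := D.R_le _ _ hxf h4
  have h6 : a * r' = r' * a := h.wp_comm' a (mem_Wp hp hx ha) r' (W_le_Wp p (D.V_le p _ hpf hr'V))
  have e : k * (a * a') * k⁻¹ * (a * a')⁻¹ = r * r' := by
    calc k * (a * a') * k⁻¹ * (a * a')⁻¹ = (k * a * k⁻¹) * (k * a' * k⁻¹ * a'⁻¹) * a⁻¹ := by group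
      _ = (k * a * k⁻¹) * r' * a⁻¹ := by rw [hr']
      _ = (k * a * k⁻¹ * a⁻¹) * (a * r') * a⁻¹ := by group
      _ = r * (r' * a) * a⁻¹ := by rw [h6, hr]
      _ = r * r' := by group
  rw [e] at h5
  have h7 : r' ∈ V m := by
    have h8 := mul_mem (inv_mem (D.R_le x m hx h3)) (D.R_le p m hp h5)
    rwa [inv_mul_cancel_left] at h8
  have h8 : r' ∈ R p := h.V_inf hp hpf (Ne.symm hfm) h7 hr'V
  have h9 : r' = 1 := by
    by_contra hne
    exact hxp (MulAction.injective f ((D.ti _ _ _ h4 h8 hne).trans hfp.symm))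
  rw [h9, mul_one] at h5
  have h10 : r = 1 := by
    by_contra hne
    exact hxp (D.ti _ _ _ h3 h5 hne)
  exact comm_iff_eq_one.1 h10

theorem ct_of [Finite G] {p q x : X} {m : L} (hc : Crit inc W n p q) {f : G} (hf : f ∈ NN R W q)
    (hC : ∀ w ∈ W p, f * w * f⁻¹ * w⁻¹ ∈ NN R W p) (hp : inc p m) (hx : inc x m) (hxp : x ≠ p)
    (hfm : f • m ≠ m) : Ct inc R W V := by
  intro l y z k a hy hz hzy hk hkV ha
  obtain ⟨g, hgy, hgz, hgl⟩ := h.tr l m y z p x hy hz hzy.symm hp hx hxp.symm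
  have h1 := KK.smul h.D hk g
  have h2 := cent_smul h.D hkV g
  have h3 := ha.smul h.D g
  rw [hgy] at h1
  rw [hgl] at h2
  rw [hgz, hgl] at h3
  have h4 := cgm (g := g⁻¹) (h.comm_of_five hc hf hC hp hx hxp hfm h3 h1 h2)
  have e1 : g⁻¹ * (g * k * g⁻¹ * (g * a * g⁻¹)) * g⁻¹⁻¹ = k * a := by group
  have e2 : g⁻¹ * (g * a * g⁻¹ * (g * k * g⁻¹)) * g⁻¹⁻¹ = a * k := by group
  rwa [e1, e2] at h4

/-! ### (7.5) -/

theorem XX_le {p : X} {l : L} (hp : inc p l) : XX inc R W V l ≤ Wp inc R W V p := by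
  rw [XX, closure_le]
  rintro a (ha | ⟨y, hy, ha⟩)
  · exact W_le_Wp _ (h.D.V_le p l hp ha)
  · exact mem_Wp hp hy ha

omit h in
theorem V_le_XX {l : L} {v : G} (hv : v ∈ V l) : v ∈ XX inc R W V l := subset_closure (Or.inl hv)

omit h in
theorem NV_XX {y : X} {l : L} (hy : inc y l) {a : G} (ha : NV R W V y l a) : a ∈ XX inc R W V l :=
  subset_closure (Or.inr ⟨y, hy, ha⟩)

theorem XX_comm {l : L} {a b : G} (ha : a ∈ XX inc R W V l) (hb : b ∈ XX inc R W V l) : a * b = b * a := by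
  obtain ⟨p, hp⟩ := h.exists_inc l
  exact h.wp_comm' a (h.XX_le hp ha) b (h.XX_le hp hb)

theorem XX_sq {l : L} {a : G} (ha : a ∈ XX inc R W V l) : a * a = 1 := by
  obtain ⟨p, hp⟩ := h.exists_inc l
  exact h.wp_sq a (h.XX_le hp ha)

theorem EE_mul {p : X} {l : L} (hp : inc p l) {a b : G} (ha : EE inc R W V p l a) (hb : EE inc R W V p l b) :
    EE inc R W V p l (a * b) := by
  refine ⟨mul_mem ha.1 hb.1, fun c hc => ?_⟩
  have h1 := hb.2 c hc
  have h2 := h.XX_comm ha.1 (V_le_XX (R := R) (W := W) (inc := inc) (h.D.R_le p l hp h1))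
  have e : c * (a * b) * c⁻¹ * (a * b)⁻¹ = (c * a * c⁻¹ * a⁻¹) * (a * (c * b * c⁻¹ * b⁻¹) * a⁻¹) := by group
  rw [e, h2, mul_inv_cancel_right]
  exact mul_mem (ha.2 c hc) h1

omit h in
theorem EE_of_V {p : X} {l : L} {v : G} (hv : v ∈ V l) : EE inc R W V p l v := by
  refine ⟨V_le_XX hv, fun c hc => ?_⟩
  have e : c * v * c⁻¹ * v⁻¹ = 1 := comm_iff_eq_one.2 (mem_centralizer_iff.1 hc v hv).symm
  rw [e]; exact one_mem _

omit h in
theorem EE_of_NV {p : X} {l : L} (hp : inc p l) {a : G} (ha : NV R W V p l a) : EE inc R W V p l a :=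
  ⟨NV_XX hp ha, ha.2⟩

/-- `E_p ∩ E_x = V_l` -/
theorem EE_inf {p x : X} {l : L} (hxp : x ≠ p) {e : G} (he : EE inc R W V p l e) (he' : EE inc R W V x l e) :
    e ∈ V l := by
  refine h.t6 l e ?_ (h.XX_sq he.1) fun c hc => ?_
  · rw [mem_centralizer_iff]
    exact fun v hv => h.XX_comm (V_le_XX hv) he.1
  · by_contra hne
    exact hxp (h.D.ti _ _ _ (he'.2 c hc) (he.2 c hc) fun e1 => hne (comm_iff_eq_one.1 e1))

/-- `[c, a a^k] = [[c, a], k]` -/
theorem delta_comm (ct : Ct inc R W V) {p x : X} {l : L} (hp : inc p l) (hx : inc x l) (hxp : x ≠ p) {a k : G}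
    (ha : NV R W V x l a) (hk : KK R W p k) : EE inc R W V p l (a * (k * a * k⁻¹)) := by
  have D := h.D
  have hkl := h.KK_line hp hk
  have hkl' : k⁻¹ • l = l := by rw [inv_smul_eq_iff, hkl]
  have hb := ha.smul D k
  rw [hkl] at hb
  have hkx : inc (k • x) l := by
    have := D.inc_smul k _ _ hx
    rwa [hkl] at this
  refine ⟨mul_mem (NV_XX hx ha) (NV_XX hkx hb), fun c hc => ?_⟩
  have hc' : k⁻¹ * c * k ∈ centralizer (V l : Set G) := by
    have := cent_smul D hc k⁻¹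
    rwa [hkl', inv_inv] at this
  set d := k⁻¹ * c * k * c⁻¹ with hd
  have hdV : d ∈ centralizer (V l : Set G) := mul_mem hc' (inv_mem hc)
  have hdK : KK R W p d := by
    have h1 := KK.conj D hk (cent_fix D hp hc)
    have h2 := hk.inv.mul h1
    have e : k⁻¹ * (c * k * c⁻¹) = d := by rw [hd]; group
    rwa [e] at h2
  have h1 := ct l p x d a hp hx hxp hdK hdV ha
  have hr := ha.2 c hc
  set r := c * a * c⁻¹ * a⁻¹ with hrd
  have hrV := D.R_le x l hx hr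
  have h2 : d * r = r * d := (mem_centralizer_iff.1 hdV r hrV).symm
  have h3 : (k⁻¹ * c * k) * a * (k⁻¹ * c * k)⁻¹ * a⁻¹ = r := by
    have e1 : k⁻¹ * c * k = d * c := by rw [hd]; group
    rw [e1]
    calc d * c * a * (d * c)⁻¹ * a⁻¹ = d * (c * a * c⁻¹ * a⁻¹) * a * d⁻¹ * a⁻¹ := by group
      _ = (d * r) * a * d⁻¹ * a⁻¹ := by rw [hrd]
      _ = r * (d * a) * d⁻¹ * a⁻¹ := by rw [h2]; group
      _ = r * (a * d) * d⁻¹ * a⁻¹ := by rw [h1]
      _ = r := by group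
  have h4 : k * r * k⁻¹ * r⁻¹ ∈ R p := hk.2 r (D.V_le p l hp hrV)
  have h5 : k * r * k⁻¹ ∈ V l := by
    have := mul_mem (D.R_le p l hp h4) hrV
    rwa [inv_mul_cancel_right] at this
  have h6 := h.XX_comm (NV_XX hx ha) (V_le_XX (R := R) (W := W) (inc := inc) h5)
  have e2 : c * (a * (k * a * k⁻¹)) * c⁻¹ * (a * (k * a * k⁻¹))⁻¹ = r * (k * r * k⁻¹) := by
    calc c * (a * (k * a * k⁻¹)) * c⁻¹ * (a * (k * a * k⁻¹))⁻¹
        = (c * a * c⁻¹ * a⁻¹) * (a * (k * ((k⁻¹ * c * k) * a * (k⁻¹ * c * k)⁻¹ * a⁻¹) * k⁻¹) * a⁻¹) := by group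
      _ = r * (a * (k * r * k⁻¹) * a⁻¹) := by rw [h3, hrd]
      _ = r * (k * r * k⁻¹) := by rw [h6, mul_inv_cancel_right]
  have h7 : r⁻¹ = r := inv_eq_of_mul_eq_one_left (h.sqV hrV)
  have h8 : r * (k * r * k⁻¹) = k * r * k⁻¹ * r := by
    obtain ⟨z, hz⟩ := h.exists_inc l
    exact D.comm z _ (D.V_le z l hz hrV) _ (D.V_le z l hz h5)
  rw [e2, h8]
  rwa [h7] at h4

/-- `X_l ≤ N_{x,l} E_p` -/
theorem dec (ct : Ct inc R W V) {p x : X} {l : L} (hp : inc p l) (hx : inc x l) (hxp : x ≠ p) {e : G}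
    (he : e ∈ XX inc R W V l) : ∃ a, NV R W V x l a ∧ ∃ e', EE inc R W V p l e' ∧ e = a * e' := by
  have D := h.D
  have one : NV R W V x l 1 := NV.of_R D hx (one_mem _)
  refine closure_induction (p := fun e _ => ∃ a, NV R W V x l a ∧ ∃ e', EE inc R W V p l e' ∧ e = a * e')
    ?_ ?_ ?_ ?_ he
  · rintro b (hb | ⟨y, hy, hb⟩)
    · exact ⟨1, one, b, EE_of_V hb, by rw [one_mul]⟩
    · by_cases hyp : y = p
      · subst hyp
        exact ⟨1, one, b, EE_of_NV hy hb, by rw [one_mul]⟩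
      · obtain ⟨k, hk, hkx⟩ := h.kt l p x y hp hx hy hxp hyp
        have hkl := h.KK_line hp hk
        have hkl' : k⁻¹ • l = l := by rw [inv_smul_eq_iff, hkl]
        have h1 := hb.smul D k⁻¹
        rw [hkl', ← hkx, inv_smul_smul, inv_inv] at h1
        refine ⟨k⁻¹ * b * k, h1, _, h.delta_comm ct hp hx hxp h1 hk, ?_⟩
        have h2 : (k⁻¹ * b * k) * (k⁻¹ * b * k) = 1 := D.sq x _ h1.mem_W
        rw [← mul_assoc, h2, one_mul]
        group
  · exact ⟨1, one, 1, EE_of_V (one_mem _), by rw [one_mul]⟩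
  · rintro b c - - ⟨a, ha, e, he, rfl⟩ ⟨a', ha', e', he', rfl⟩
    refine ⟨a * a', ha.mul D hx ha', e * e', h.EE_mul hp he he', ?_⟩
    have h1 := h.XX_comm he.1 (NV_XX hx ha')
    calc a * e * (a' * e') = a * (e * a') * e' := by group
      _ = a * (a' * e) * e' := by rw [h1]
      _ = a * a' * (e * e') := by group
  · rintro b - ⟨a, ha, e, he, rfl⟩
    refine ⟨a, ha, e, he, ?_⟩
    have h1 : (a * e) * (a * e) = 1 := h.XX_sq (mul_mem (NV_XX hx ha) he.1)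
    exact inv_eq_of_mul_eq_one_left h1

theorem exists_ne_pt {p : X} {l : L} (hp : inc p l) : ∃ x, inc x l ∧ x ≠ p := by
  by_contra hcon
  push Not at hcon
  obtain ⟨c, hc, hcV⟩ := h.ek l p hp
  apply hcV
  rw [mem_centralizer_iff]
  intro v hv
  obtain ⟨z, hz, hvz⟩ := h.D.cover l v hv
  rw [hcon z hz] at hvz
  exact (hc.1 v hvz).symm

/-- `E_p = N_{p,l} V_l` -/
theorem EE_dec (ct : Ct inc R W V) {p : X} {l : L} (hp : inc p l) {e : G} (he : EE inc R W V p l e) :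
    ∃ a, NV R W V p l a ∧ ∃ v ∈ V l, e = a * v := by
  obtain ⟨x, hx, hxp⟩ := h.exists_ne_pt hp
  obtain ⟨a, ha, e', he', rfl⟩ := h.dec ct hx hp hxp.symm he.1
  refine ⟨a, ha, e', ?_, rfl⟩
  have h1 : EE inc R W V p l (a * (a * e')) := h.EE_mul hp (EE_of_NV hp ha) he
  have h2 : a * (a * e') = e' := by rw [← mul_assoc, h.XX_sq (NV_XX hp ha), one_mul]
  rw [h2] at h1
  exact h.EE_inf hxp h1 he'

/-- `k² ∈ C(V_l)` -/
theorem sq_cent {p : X} {l : L} (hp : inc p l) {k : G} (hk : KK R W p k) :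
    k * k ∈ centralizer (V l : Set G) := by
  rw [mem_centralizer_iff]
  intro v hv
  have h1 := hk.2 v (h.D.V_le p l hp hv)
  set r := k * v * k⁻¹ * v⁻¹ with hr
  have h2 := hk.1 r h1
  have h3 : r * r = 1 := h.sqV (h.D.R_le p l hp h1)
  have e : k * v = r * v * k := by rw [hr]; group
  calc v * (k * k) = (r * r) * v * (k * k) := by rw [h3, one_mul]
    _ = r * (r * v * k) * k := by group
    _ = r * (k * v) * k := by rw [e]
    _ = (r * k) * v * k := by group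
    _ = (k * r) * v * k := by rw [h2]
    _ = k * (r * v * k) := by group
    _ = k * (k * v) := by rw [e]
    _ = k * k * v := by group

/-- **`a a^k ∈ N_{p,l}`** -/
theorem delta (ct : Ct inc R W V) {p x : X} {l : L} (hp : inc p l) (hx : inc x l) (hxp : x ≠ p) {a k : G}
    (ha : NV R W V x l a) (hk : KK R W p k) (hkV : k ∉ centralizer (V l : Set G)) :
    NV R W V p l (a * (k * a * k⁻¹)) := by
  have D := h.D
  have hE := h.delta_comm ct hp hx hxp ha hk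
  obtain ⟨b, hb, v, hv, e⟩ := h.EE_dec ct hp hE
  have h1 := ct l p x (k * k) a hp hx hxp (hk.mul hk) (h.sq_cent hp hk) ha
  have hkl := h.KK_line hp hk
  have hkx : inc (k • x) l := by
    have := D.inc_smul k _ _ hx
    rwa [hkl] at this
  have ha' := ha.smul D k
  rw [hkl] at ha'
  have h2 := h.XX_comm (NV_XX hx ha) (NV_XX hkx ha')
  have h3 : k * (a * (k * a * k⁻¹)) * k⁻¹ = a * (k * a * k⁻¹) := by
    calc k * (a * (k * a * k⁻¹)) * k⁻¹ = (k * a * k⁻¹) * (k * k * a) * (k * k)⁻¹ := by group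
      _ = (k * a * k⁻¹) * (a * (k * k)) * (k * k)⁻¹ := by rw [h1]
      _ = (k * a * k⁻¹) * a := by group
      _ = a * (k * a * k⁻¹) := h2.symm
  rw [e] at h3 ⊢
  have h4 := hb.comm hk
  have h5 : k * v = v * k := by
    have h6 : b * (k * v * k⁻¹) = b * v := by
      calc b * (k * v * k⁻¹) = (b * k) * v * k⁻¹ := by group
        _ = (k * b) * v * k⁻¹ := by rw [h4]
        _ = k * (b * v) * k⁻¹ := by group
        _ = b * v := h3
    have h7 := mul_left_cancel h6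
    exact mul_inv_eq_iff_eq_mul.1 h7
  have h6 : v ∈ R p := by
    by_contra hvR
    exact hkV (h.kf l p k v hp hk hv hvR h5)
  exact hb.mul D hp (NV.of_R D hp h6)

/-- `k ∈ K_p - C(V_l)` moves the points `≠ p` of `l` -/
theorem moves {p x : X} {l : L} (hp : inc p l) (hx : inc x l) (hxp : x ≠ p) {k : G} (hk : KK R W p k)
    (hkV : k ∉ centralizer (V l : Set G)) : k • x ≠ x := by
  intro e
  obtain ⟨r, hr, hr1⟩ := h.D.exists_ne x
  have hrV := h.D.R_le x l hx hr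
  have h1 := hk.2 r (h.D.V_le p l hp hrV)
  have h2 : k * r * k⁻¹ * r⁻¹ ∈ R x := mul_mem (h.D.norm_R e hr) (inv_mem hr)
  have h3 : k * r = r * k := by
    by_contra hne
    exact hxp (h.D.ti _ _ _ h2 h1 fun e1 => hne (comm_iff_eq_one.1 e1))
  refine hkV (h.kf l p k r hp hk hrV (fun hrp => ?_) h3)
  exact hxp (h.D.ti _ _ _ hr hrp hr1)

/-- **every vector of `N_{p,l}` is `a a^k` modulo `R_p`** -/
theorem surj (ct : Ct inc R W V) {p x : X} {l : L} (hp : inc p l) (hx : inc x l) (hxp : x ≠ p) {e k : G}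
    (hk : KK R W p k) (hkV : k ∉ centralizer (V l : Set G)) (he : NV R W V p l e) :
    ∃ a, NV R W V x l a ∧ ∃ r ∈ R p, e = r * (a * (k * a * k⁻¹)) := by
  have D := h.D
  have hkl := h.KK_line hp hk
  have hkl' : k⁻¹ • l = l := by rw [inv_smul_eq_iff, hkl]
  have hkx : inc (k • x) l := by
    have := D.inc_smul k _ _ hx
    rwa [hkl] at this
  have hne := h.moves hp hx hxp hk hkV
  obtain ⟨a, ha, e', he', hee⟩ := h.dec ct hkx hx hne.symm (NV_XX hp he)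
  obtain ⟨b, hb, v, hv, rfl⟩ := h.EE_dec ct hkx he'
  have h1 := hb.smul D k⁻¹
  rw [hkl', inv_smul_smul, inv_inv] at h1
  set a₁ := k⁻¹ * b * k with ha₁
  have hδ := h.delta ct hp hx hxp h1 hk hkV
  set δ := a₁ * (k * a₁ * k⁻¹) with hδd
  have ha₁X := NV_XX hx h1
  have haX := NV_XX hx ha
  have hδX := NV_XX hp hδ
  have hvX := V_le_XX (R := R) (W := W) (inc := inc) hv
  have hbe : b = a₁ * δ := by
    have e1 : b = k * a₁ * k⁻¹ := by rw [ha₁]; group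
    rw [hδd, ← mul_assoc, h.XX_sq ha₁X, one_mul, ← e1]
  -- `e = (a a₁) δ v`
  have hee' : e = (a * a₁) * (δ * v) := by rw [hee, hbe]; group
  have h2 : a * a₁ = e * (δ * v) := by
    have h3 : (δ * v) * (δ * v) = 1 := h.XX_sq (mul_mem hδX hvX)
    rw [hee', mul_assoc, h3, mul_one]
  have h3 : EE inc R W V p l (a * a₁) := by
    rw [h2]
    exact h.EE_mul hp (EE_of_NV hp he) (h.EE_mul hp (EE_of_NV hp hδ) (EE_of_V hv))
  have h4 : NV R W V x l (a * a₁) := ha.mul D hx h1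
  have h5 : a * a₁ ∈ V l := h.EE_inf hxp h3 (EE_of_NV hx h4)
  have h6 : e = (a * a₁ * v) * δ := by
    rw [hee', h.XX_comm hδX hvX]; group
  have h7 : NV R W V p l (a * a₁ * v) := by
    have h8 : a * a₁ * v = e * δ := by
      calc a * a₁ * v = a * a₁ * v * (δ * δ) := by rw [h.XX_sq hδX, mul_one]
        _ = (a * a₁ * v * δ) * δ := by group
        _ = e * δ := by rw [← h6]
    rw [h8]
    exact he.mul D hp hδ
  exact ⟨a₁, h1, a * a₁ * v, h.NN_inf hp h7.1 (mul_mem h5 hv), h6⟩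

/-! ### (7.6) -/

theorem false_of [Finite G] {p q : X} (hc : Crit inc W n p q) {f : G} (hf : f ∈ NN R W q)
    (hC : ∀ w ∈ W p, f * w * f⁻¹ * w⁻¹ ∈ NN R W p) (hm : ∃ w ∈ W p, f * w ≠ w * f)
    (fx : ∀ m, inc p m → ∃ e v, NV R W V p m e ∧ v ∈ V m ∧ v ∉ R p ∧ ∀ g, (∀ r ∈ R p, g * r = r * g) →
      (∀ u ∈ V m, g * u * g⁻¹ * u⁻¹ ∈ NN R W p) → g * (e * v) * g⁻¹ * (e * v)⁻¹ ∈ R p) : False := by
  have h2 := h.two
  have D := h.D
  have hfq := (mem_NN.1 hf).1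
  have hfp : f • p = p := hc.symm.fix D (by omega) hfq
  have hfR : ∀ r ∈ R p, f * r = r * f := fun r hr => hc.symm.comm_R D (by omega) hfq hr
  have hRW : ∀ a ∈ R p, ∀ w ∈ W p, w * a = a * w := fun a ha w hw => D.comm p w hw a (D.R_le_W p ha)
  -- a line moved by `f`
  obtain ⟨m, hp, hfm⟩ : ∃ m, inc p m ∧ f • m ≠ m := by
    by_contra hcon
    push Not at hcon
    let A : Subgroup G :=
      { carrier := {w | w ∈ W p ∧ f * w * f⁻¹ * w⁻¹ ∈ R p}
        one_mem' := ⟨one_mem _, by simp⟩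
        mul_mem' := by
          rintro a b ⟨ha, ha'⟩ ⟨hb, hb'⟩
          refine ⟨mul_mem ha hb, ?_⟩
          have e : f * (a * b) * f⁻¹ * (a * b)⁻¹ = (f * a * f⁻¹ * a⁻¹) * (a * (f * b * f⁻¹ * b⁻¹) * a⁻¹) := by
            group
          rw [e, hRW _ hb' a ha, mul_inv_cancel_right]
          exact mul_mem ha' hb'
        inv_mem' := by
          rintro a ⟨ha, ha'⟩
          refine ⟨inv_mem ha, ?_⟩
          rwa [D.inv_eq ha] }
    have h3 : W p ≤ A := by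
      refine D.W_le p A fun l hl v hv => ?_
      have hvW := D.V_le p l hl hv
      have h4 : f * v * f⁻¹ ∈ V l := by
        have := D.V_smul f l v hv
        rwa [hcon l hl] at this
      exact ⟨hvW, h.NN_inf hl (hC v hvW) (mul_mem h4 (inv_mem hv))⟩
    obtain ⟨w, hw, hne⟩ := hm
    exact hne (h.ke p q hc f hfq (fun w hw => (h3 hw).2) w hw)
  obtain ⟨x, hx, hxp⟩ := h.exists_ne_pt hp
  have ct := h.ct_of hc hf hC hp hx hxp hfm
  have hpf : inc p (f • m) := by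
    have := D.inc_smul f _ _ hp
    rwa [hfp] at this
  -- `f` centralises `N_{p,m}` modulo `R_p`
  have key : ∀ e, NV R W V p m e → f * e * f⁻¹ * e⁻¹ ∈ R p := by
    intro e he
    obtain ⟨k, hk, hkV⟩ := h.ek m p hp
    obtain ⟨a, ha, r, hr, rfl⟩ := h.surj ct hp hx hxp hk hkV he
    have hδ := h.delta ct hp hx hxp ha hk hkV
    have hw := h.five hc hf hp hx (h.R_inf_of hc hfq hp hx hxp hfm) ha
    set δ := a * (k * a * k⁻¹) with hδd
    have ha' := ha.smul D f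
    have hδW := mem_Wp hp hp hδ
    have haW := mem_Wp hp hx ha
    have ha'W := mem_Wp hpf (D.inc_smul f _ _ hx) ha'
    set a' := f * a * f⁻¹ with ha'd
    -- `k'' = f⁻¹ k f`
    have hk'' : KK R W p (f⁻¹ * k * f) := by
      have := KK.conj D hk (g := f⁻¹) (by rw [inv_smul_eq_iff, hfp])
      rwa [inv_inv] at this
    have hd : KK R W p (k⁻¹ * (f⁻¹ * k * f)) := hk.inv.mul hk''
    have hdV : k⁻¹ * (f⁻¹ * k * f) ∈ centralizer (V m : Set G) := by
      rw [mem_centralizer_iff]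
      intro v hv
      have hvW := D.V_le p m hp hv
      have hu := hC v hvW
      set u := f * v * f⁻¹ * v⁻¹ with hud
      have h3 := (mem_NN.1 hu).2 k hk
      have h4 := hk.2 v hvW
      set r₁ := k * v * k⁻¹ * v⁻¹ with hr₁
      have h5 := hRW r₁ h4 u (mem_NN.1 hu).1
      have h6 : (f⁻¹ * k * f) * v * (f⁻¹ * k * f)⁻¹ = k * v * k⁻¹ := by
        have e1 : f * v * f⁻¹ = u * v := by rw [hud]; group
        have e2 : k * v * k⁻¹ = r₁ * v := by rw [hr₁]; group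
        calc (f⁻¹ * k * f) * v * (f⁻¹ * k * f)⁻¹ = f⁻¹ * (k * (f * v * f⁻¹) * k⁻¹) * f := by group
          _ = f⁻¹ * (k * (u * v) * k⁻¹) * f := by rw [e1]
          _ = f⁻¹ * ((k * u) * v * k⁻¹) * f := by group
          _ = f⁻¹ * (u * (k * v * k⁻¹)) * f := by rw [h3]; group
          _ = f⁻¹ * ((u * r₁) * v) * f := by rw [e2]; group
          _ = f⁻¹ * (r₁ * (u * v)) * f := by rw [h5]; group
          _ = f⁻¹ * (r₁ * (f * v * f⁻¹)) * f := by rw [e1]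
          _ = f⁻¹ * (r₁ * f) * v := by group
          _ = f⁻¹ * (f * r₁) * v := by rw [hfR r₁ h4]
          _ = k * v * k⁻¹ := by rw [e2]; group
      have h7 : (f⁻¹ * k * f) * v = k * v * k⁻¹ * (f⁻¹ * k * f) := mul_inv_eq_iff_eq_mul.1 h6
      calc v * (k⁻¹ * (f⁻¹ * k * f)) = k⁻¹ * (k * v * k⁻¹ * (f⁻¹ * k * f)) := by group
        _ = k⁻¹ * ((f⁻¹ * k * f) * v) := by rw [h7]
        _ = k⁻¹ * (f⁻¹ * k * f) * v := by group
    have h3 := ct m p x _ a hp hx hxp hd hdV ha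
    have h4 : (f⁻¹ * k * f) * a * (f⁻¹ * k * f)⁻¹ = a * δ := by
      have e1 : a * δ = k * a * k⁻¹ := by
        rw [hδd, ← mul_assoc, D.sq x a ha.mem_W, one_mul]
      rw [e1]
      calc (f⁻¹ * k * f) * a * (f⁻¹ * k * f)⁻¹
          = k * (k⁻¹ * (f⁻¹ * k * f) * a) * (k⁻¹ * (f⁻¹ * k * f))⁻¹ * k⁻¹ := by group
        _ = k * (a * (k⁻¹ * (f⁻¹ * k * f))) * (k⁻¹ * (f⁻¹ * k * f))⁻¹ * k⁻¹ := by rw [h3]
        _ = k * a * k⁻¹ := by group
    have h5 : k * a' * k⁻¹ = a' * (f * δ * f⁻¹) := by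
      calc k * a' * k⁻¹ = f * ((f⁻¹ * k * f) * a * (f⁻¹ * k * f)⁻¹) * f⁻¹ := by rw [ha'd]; group
        _ = f * (a * δ) * f⁻¹ := by rw [h4]
        _ = a' * (f * δ * f⁻¹) := by rw [ha'd]; group
    have h6 : k * a * k⁻¹ = a * δ := by
      rw [hδd, ← mul_assoc, D.sq x a ha.mem_W, one_mul]
    have h7 := hk.2 _ hw
    have hδ'W : f * δ * f⁻¹ ∈ Wp inc R W V p := by
      have := h.wp_smul hδW f
      rwa [hfp] at this
    have c1 : δ * a' = a' * δ := h.wp_comm' _ hδW _ ha'W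
    have c2 : (a * a') * (δ * (f * δ * f⁻¹)) = (δ * (f * δ * f⁻¹)) * (a * a') :=
      h.wp_comm' _ (mul_mem haW ha'W) _ (mul_mem hδW hδ'W)
    have h8 : k * (a * a') * k⁻¹ * (a * a')⁻¹ = δ * (f * δ * f⁻¹) := by
      calc k * (a * a') * k⁻¹ * (a * a')⁻¹ = (k * a * k⁻¹) * (k * a' * k⁻¹) * (a * a')⁻¹ := by group
        _ = (a * δ) * (a' * (f * δ * f⁻¹)) * (a * a')⁻¹ := by rw [h6, h5]
        _ = a * (δ * a') * (f * δ * f⁻¹) * (a * a')⁻¹ := by group
        _ = a * (a' * δ) * (f * δ * f⁻¹) * (a * a')⁻¹ := by rw [c1]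
        _ = (a * a') * (δ * (f * δ * f⁻¹)) * (a * a')⁻¹ := by group
        _ = δ * (f * δ * f⁻¹) := by rw [c2, mul_inv_cancel_right]
    rw [h8] at h7
    have c3 : δ * (f * δ * f⁻¹) = f * δ * f⁻¹ * δ := h.wp_comm' _ hδW _ hδ'W
    have h9 : δ⁻¹ = δ := inv_eq_of_mul_eq_one_left (h.wp_sq δ hδW)
    have h10 : f * δ * f⁻¹ * δ⁻¹ ∈ R p := by rw [h9, ← c3]; exact h7
    have e : f * (r * δ) * f⁻¹ * (r * δ)⁻¹ = r * (f * δ * f⁻¹ * δ⁻¹) * r⁻¹ := by
      calc f * (r * δ) * f⁻¹ * (r * δ)⁻¹ = (f * r) * δ * f⁻¹ * δ⁻¹ * r⁻¹ := by group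
        _ = (r * f) * δ * f⁻¹ * δ⁻¹ * r⁻¹ := by rw [hfR r hr]
        _ = r * (f * δ * f⁻¹ * δ⁻¹) * r⁻¹ := by group
    rw [e]
    exact mul_mem (mul_mem hr h10) (inv_mem hr)
  -- the end
  obtain ⟨e, v, he, hv, hvR, hfix⟩ := fx m hp
  have h3 := hfix f hfR fun u hu => hC u (D.V_le p m hp hu)
  have h4 := key e he
  have h5 : f * v * f⁻¹ * v⁻¹ ∈ R p := by
    have e1 : f * (e * v) * f⁻¹ * (e * v)⁻¹ = (f * e * f⁻¹ * e⁻¹) * (e * (f * v * f⁻¹ * v⁻¹) * e⁻¹) := by group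
    rw [e1] at h3
    have h6 := mul_mem (inv_mem h4) h3
    rw [inv_mul_cancel_left] at h6
    have h7 := hRW _ h6 e he.mem_W
    have e2 : f * v * f⁻¹ * v⁻¹ = e⁻¹ * (e * (f * v * f⁻¹ * v⁻¹) * e⁻¹) * e := by group
    rw [e2]
    have h8 : e⁻¹ * (e * (f * v * f⁻¹ * v⁻¹) * e⁻¹) * e = e * (f * v * f⁻¹ * v⁻¹) * e⁻¹ := by
      rw [mul_assoc, ← h7, inv_mul_cancel_left]
    rw [h8]; exact h6
  have h6 : f * v * f⁻¹ ∈ V m := by
    have := mul_mem (D.R_le p m hp h5) hv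
    rwa [inv_mul_cancel_right] at this
  have h7 := h.V_inf hp hpf (Ne.symm hfm) h6 (D.V_smul f m v hv)
  apply hvR
  have h8 := D.norm_R (g := f⁻¹) (x := p) (by rw [inv_smul_eq_iff, hfp]) h7
  have e3 : f⁻¹ * (f * v * f⁻¹) * f⁻¹⁻¹ = v := by group
  rwa [e3] at h8

end Hy

end Cfsg.Agent.Omega.NO3S.WQ
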